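import Cfsg.Agent.H624.Sl.Defs

/-!
# S4536, LA2 (task 5600): determinants of centralizer elements

`dt C W`: the determinant of `C` on the invariant subspace `W`; `dt_map`: multiplicativity; `dt_step`: the subspaces
`ker f(T) ^ i`; `det_mem`: the abstract form of LA2; `kd_concave`, `centralizer_le_of_kd`: the statements for `GL_n(F)`.
-/

set_option autoImplicit false

open Cfsg Polynomial
open scoped MatrixGroups

namespace Cfsg.Agent.H156.Sl

section Basic

variable {F : Type*} [Field F] {V V' : Type*} [AddCommGroup V] [Module F V] [AddCommGroup V'] [Module F V']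

open Classical in
/-- the determinant of `C` on the invariant subspace `W` -/
noncomputable def dt (C : V →ₗ[F] V) (W : Submodule F V) : F :=
  if h : W ≤ W.comap C then LinearMap.det (C.restrict h) else 0

theorem dt_eq {C : V →ₗ[F] V} {W : Submodule F V} (h : W ≤ W.comap C) : dt C W = LinearMap.det (C.restrict h) :=
  dif_pos h

/-- multiplicativity of the determinant for an equivariant surjection -/
theorem det_of_surj [FiniteDimensional F V] (φ : V →ₗ[F] V') (hφ : Function.Surjective φ) (a : V →ₗ[F] V)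
    (b : V' →ₗ[F] V') (hab : ∀ v, φ (a v) = b (φ v)) :
    LinearMap.det a = dt a (LinearMap.ker φ) * LinearMap.det b := by
  have h : LinearMap.ker φ ≤ (LinearMap.ker φ).comap a := by
    intro v hv
    rw [Submodule.mem_comap, LinearMap.mem_ker, hab, LinearMap.mem_ker.1 hv, map_zero]
  rw [dt_eq h, LinearMap.det_eq_det_mul_det (LinearMap.ker φ) a h]
  congr 1
  have e := φ.quotKerEquivOfSurjective hφ
  rw [← LinearMap.det_conj ((LinearMap.ker φ).mapQ (LinearMap.ker φ) a h) (φ.quotKerEquivOfSurjective hφ)]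
  congr 1
  apply LinearMap.ext
  intro w
  obtain ⟨v, rfl⟩ := hφ w
  have h1 : (φ.quotKerEquivOfSurjective hφ).symm (φ v) = (LinearMap.ker φ).mkQ v := by
    rw [LinearEquiv.symm_apply_eq]
    rfl
  rw [LinearMap.comp_apply, LinearMap.comp_apply, LinearEquiv.coe_coe, LinearEquiv.coe_coe, h1]
  change φ (a v) = b (φ v)
  exact hab v

theorem dt_ne_zero [FiniteDimensional F V] {C : V →ₗ[F] V} (hC : Function.Injective C) {W : Submodule F V}
    (h : W ≤ W.comap C) : dt C W ≠ 0 := by
  rw [dt_eq h]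
  intro h0
  have h1 : Function.Injective (C.restrict h) := by
    intro v w hvw
    exact Subtype.ext (hC (congrArg Subtype.val hvw))
  exact (LinearMap.bot_lt_ker_of_det_eq_zero h0).ne' (LinearMap.ker_eq_bot.2 h1)

/-- invariance under equivariant isomorphisms -/
theorem dt_map [FiniteDimensional F V] (C : V →ₗ[F] V) (C' : V' →ₗ[F] V') (ψ : V →ₗ[F] V')
    (hψ : ∀ v, ψ (C v) = C' (ψ v)) {W : Submodule F V} (h : W ≤ W.comap C) :
    dt C W = dt C (W ⊓ LinearMap.ker ψ) * dt C' (W.map ψ) := by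
  have h' : W.map ψ ≤ (W.map ψ).comap C' := by
    rintro _ ⟨v, hv, rfl⟩
    exact ⟨C v, h hv, hψ v⟩
  have hk : W ⊓ LinearMap.ker ψ ≤ (W ⊓ LinearMap.ker ψ).comap C := by
    rintro v ⟨hv, hv2⟩
    refine ⟨h hv, ?_⟩
    rw [SetLike.mem_coe, LinearMap.mem_ker, hψ, LinearMap.mem_ker.1 hv2, map_zero]
  rw [dt_eq h, dt_eq h', det_of_surj (ψ.submoduleMap W) (ψ.submoduleMap_surjective W) (C.restrict h) (C'.restrict h')
    (fun v => Subtype.ext (hψ v.1))]
  congr 1
  have hK : LinearMap.ker (ψ.submoduleMap W) ≤ (LinearMap.ker (ψ.submoduleMap W)).comap (C.restrict h) := by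
    intro v hv
    rw [LinearMap.mem_ker] at hv
    have hv2 : ψ v.1 = 0 := congrArg Subtype.val hv
    rw [Submodule.mem_comap, LinearMap.mem_ker]
    apply Subtype.ext
    change ψ (C v.1) = 0
    rw [hψ, hv2, map_zero]
  rw [dt_eq hK, dt_eq hk]
  -- the equivalence
  let e : LinearMap.ker (ψ.submoduleMap W) ≃ₗ[F] (W ⊓ LinearMap.ker ψ : Submodule F V) :=
    { toFun := fun v => ⟨v.1.1, v.1.2, congrArg Subtype.val (LinearMap.mem_ker.1 v.2)⟩
      map_add' := fun _ _ => rfl
      map_smul' := fun _ _ => rfl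
      invFun := fun v => ⟨⟨v.1, v.2.1⟩, LinearMap.mem_ker.2 (Subtype.ext v.2.2)⟩
      left_inv := fun _ => rfl
      right_inv := fun _ => rfl }
  rw [← LinearMap.det_conj ((C.restrict h).restrict hK) e]
  rfl

theorem finrank_map_add [FiniteDimensional F V] (ψ : V →ₗ[F] V') (W : Submodule F V) :
    Module.finrank F (W.map ψ) + Module.finrank F (W ⊓ LinearMap.ker ψ : Submodule F V) = Module.finrank F W := by
  have h1 := LinearMap.finrank_range_add_finrank_ker (ψ.submoduleMap W)
  rw [LinearMap.range_eq_top.2 (ψ.submoduleMap_surjective W), finrank_top] at h1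
  rw [← h1]
  congr 1
  let e : LinearMap.ker (ψ.submoduleMap W) ≃ₗ[F] (W ⊓ LinearMap.ker ψ : Submodule F V) :=
    { toFun := fun v => ⟨v.1.1, v.1.2, congrArg Subtype.val (LinearMap.mem_ker.1 v.2)⟩
      map_add' := fun _ _ => rfl
      map_smul' := fun _ _ => rfl
      invFun := fun v => ⟨⟨v.1, v.2.1⟩, LinearMap.mem_ker.2 (Subtype.ext v.2.2)⟩
      left_inv := fun _ => rfl
      right_inv := fun _ => rfl }
  exact e.symm.finrank_eq

end Basic

section Poly

variable {F : Type*} [Field F] {V : Type*} [AddCommGroup V] [Module F V] (T : V →ₗ[F] V)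

/-- the kernel of `g(T)` -/
noncomputable abbrev KK (g : F[X]) : Submodule F V := LinearMap.ker (aeval T g)

theorem mem_KK {g : F[X]} {v : V} : v ∈ KK T g ↔ aeval T g v = 0 := LinearMap.mem_ker

theorem KK_mono {g h : F[X]} (hgh : g ∣ h) : KK T g ≤ KK T h := by
  obtain ⟨k, rfl⟩ := hgh
  intro v hv
  rw [mem_KK] at hv ⊢
  rw [mul_comm, map_mul, Module.End.mul_apply, hv, map_zero]

theorem KK_mul {g h : F[X]} {v : V} : v ∈ KK T (g * h) ↔ aeval T g v ∈ KK T h := by
  rw [mem_KK, mem_KK, mul_comm, map_mul, Module.End.mul_apply]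

/-- the image of `ker f ^ (j + 1)` in `V / ker f ^ j` -/
noncomputable def R1 (f : F[X]) (j : ℕ) : Submodule F (V ⧸ KK T (f ^ j)) :=
  (KK T (f ^ (j + 1))).map (KK T (f ^ j)).mkQ

/-- the image of `f(T) ker f ^ (j + 2)` in `V / ker f ^ j` -/
noncomputable def R2 (f : F[X]) (j : ℕ) : Submodule F (V ⧸ KK T (f ^ j)) :=
  (KK T (f ^ (j + 2))).map ((KK T (f ^ j)).mkQ ∘ₗ aeval T f)

theorem R2_le (f : F[X]) (j : ℕ) : R2 T f j ≤ R1 T f j := by
  rintro _ ⟨v, hv, rfl⟩
  refine ⟨aeval T f v, ?_, rfl⟩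
  rw [SetLike.mem_coe, ← KK_mul, ← pow_succ']
  exact hv

theorem inf1 (f : F[X]) (j : ℕ) : KK T (f ^ (j + 1)) ⊓ LinearMap.ker (KK T (f ^ j)).mkQ = KK T (f ^ j) := by
  rw [Submodule.ker_mkQ]
  exact inf_eq_right.2 (KK_mono T (pow_dvd_pow f (Nat.le_succ j)))

theorem inf2 (f : F[X]) (j : ℕ) :
    KK T (f ^ (j + 2)) ⊓ LinearMap.ker ((KK T (f ^ j)).mkQ ∘ₗ aeval T f) = KK T (f ^ (j + 1)) := by
  ext v
  rw [Submodule.mem_inf, LinearMap.ker_comp, Submodule.ker_mkQ, Submodule.mem_comap, ← KK_mul, ← pow_succ']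
  exact ⟨fun h => h.2, fun h => ⟨KK_mono T (pow_dvd_pow f (Nat.le_succ _)) h, h⟩⟩

variable [FiniteDimensional F V]

theorem finrank_R1 (f : F[X]) (j : ℕ) :
    Module.finrank F (R1 T f j) + Module.finrank F (KK T (f ^ j)) = Module.finrank F (KK T (f ^ (j + 1))) := by
  have h1 := finrank_map_add (KK T (f ^ j)).mkQ (KK T (f ^ (j + 1)))
  rwa [inf1] at h1

theorem finrank_R2 (f : F[X]) (j : ℕ) :
    Module.finrank F (R2 T f j) + Module.finrank F (KK T (f ^ (j + 1))) = Module.finrank F (KK T (f ^ (j + 2))) := by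
  have h1 := finrank_map_add ((KK T (f ^ j)).mkQ ∘ₗ aeval T f) (KK T (f ^ (j + 2)))
  rwa [inf2] at h1

theorem finrank_concave (f : F[X]) (j : ℕ) :
    Module.finrank F (KK T (f ^ (j + 2))) + Module.finrank F (KK T (f ^ j)) ≤
      2 * Module.finrank F (KK T (f ^ (j + 1))) := by
  have h1 := finrank_R1 T f j
  have h2 := finrank_R2 T f j
  have h3 := Submodule.finrank_mono (R2_le T f j)
  omega

variable {T} {C : V →ₗ[F] V} (hC : Commute C T)

omit [FiniteDimensional F V] in
include hC in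
theorem comm_aeval (g : F[X]) (v : V) : aeval T g (C v) = C (aeval T g v) := by
  have h1 : Commute C (aeval T g) := by
    induction g using Polynomial.induction_on' with
    | add p q hp hq => rw [map_add]; exact hp.add_right hq
    | monomial n a =>
      rw [aeval_monomial]
      exact ((Algebra.commute_algebraMap_right a C)).mul_right (hC.pow_right n)
  exact (LinearMap.congr_fun h1.eq v).symm

omit [FiniteDimensional F V] in
include hC in
theorem KK_inv (g : F[X]) : KK T g ≤ (KK T g).comap C := by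
  intro v hv
  rw [mem_KK] at hv
  rw [Submodule.mem_comap, mem_KK, comm_aeval hC, hv, map_zero]

include hC in
theorem dt_R1 (f : F[X]) (j : ℕ) : dt C (KK T (f ^ (j + 1))) = dt C (KK T (f ^ j)) *
    dt ((KK T (f ^ j)).mapQ (KK T (f ^ j)) C (KK_inv hC _)) (R1 T f j) := by
  rw [dt_map C ((KK T (f ^ j)).mapQ (KK T (f ^ j)) C (KK_inv hC _)) (KK T (f ^ j)).mkQ (fun v => rfl)
    (KK_inv hC (f ^ (j + 1))), inf1]
  rfl

include hC in
theorem dt_R2 (f : F[X]) (j : ℕ) : dt C (KK T (f ^ (j + 2))) = dt C (KK T (f ^ (j + 1))) *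
    dt ((KK T (f ^ j)).mapQ (KK T (f ^ j)) C (KK_inv hC _)) (R2 T f j) := by
  rw [dt_map C ((KK T (f ^ j)).mapQ (KK T (f ^ j)) C (KK_inv hC _)) ((KK T (f ^ j)).mkQ ∘ₗ aeval T f)
    (fun v => by
      rw [LinearMap.comp_apply, comm_aeval hC]
      rfl) (KK_inv hC (f ^ (j + 2))), inf2]
  rfl

include hC in
/-- if `j + 1` is not the exponent of an elementary divisor -/
theorem dt_step (f : F[X]) (j : ℕ)
    (h : Module.finrank F (KK T (f ^ (j + 2))) + Module.finrank F (KK T (f ^ j)) =
      2 * Module.finrank F (KK T (f ^ (j + 1)))) :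
    dt C (KK T (f ^ (j + 2))) * dt C (KK T (f ^ j)) = dt C (KK T (f ^ (j + 1))) * dt C (KK T (f ^ (j + 1))) := by
  have h1 := finrank_R1 T f j
  have h2 := finrank_R2 T f j
  have h3 : R2 T f j = R1 T f j := Submodule.eq_of_le_of_finrank_eq (R2_le T f j) (by omega)
  have e1 := dt_R2 hC f j
  have e2 := dt_R1 hC f j
  rw [h3] at e1
  rw [e1, mul_assoc, mul_comm (dt _ (R1 T f j)), ← e2]

include hC in
/-- coprime factors -/
theorem dt_coprime {g h : F[X]} (hgh : IsCoprime g h) : dt C (KK T (g * h)) = dt C (KK T g) * dt C (KK T h) := by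
  rw [dt_map C C (aeval T g) (fun v => comm_aeval hC g v) (KK_inv hC (g * h))]
  have h1 : KK T (g * h) ⊓ LinearMap.ker (aeval T g) = KK T g :=
    inf_eq_right.2 (KK_mono T (dvd_mul_right g h))
  have h2 : (KK T (g * h)).map (aeval T g) = KK T h := by
    apply le_antisymm
    · rintro _ ⟨v, hv, rfl⟩
      exact (KK_mul T).1 hv
    · intro v hv
      obtain ⟨a, b, hab⟩ := hgh
      refine ⟨aeval T a v, ?_, ?_⟩
      · rw [SetLike.mem_coe, mem_KK, ← Module.End.mul_apply, ← map_mul]
        have h3 : g * h * a = (g * a) * h := by ring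
        rw [h3, map_mul, Module.End.mul_apply, (mem_KK T).1 hv, map_zero]
      · rw [← Module.End.mul_apply, ← map_mul]
        have h4 : aeval T (a * g + b * h) v = v := by rw [hab, map_one]; rfl
        rw [map_add, LinearMap.add_apply, map_mul (aeval T) b h, Module.End.mul_apply, (mem_KK T).1 hv, map_zero,
          add_zero, mul_comm] at h4
        exact h4
  rw [h1, h2]


/-- the sequence `dt C (ker f ^ j)`: its image under `α` is `1` once it is stationary -/
theorem seq_lemma {α : MulChar F ℂ} (D : ℕ → F) (h0 : D 0 = 1) (hD : ∀ j, D j ≠ 0)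
    (h : ∀ j, D (j + 2) * D j = D (j + 1) * D (j + 1) ∨ ∀ z : F, z ≠ 0 → α z ^ (j + 1) = 1) (n : ℕ)
    (hn : D (n + 1) = D n) : α (D n) = 1 := by
  have key : ∀ j, α (D j) = α (D (j + 1) / D j) ^ j := by
    intro j
    induction j with
    | zero => rw [h0, map_one, pow_zero]
    | succ j ih =>
      have h1 : D (j + 1) = D j * (D (j + 1) / D j) := by rw [mul_div_cancel₀ _ (hD j)]
      have h2 : α (D (j + 1)) = α (D (j + 1) / D j) ^ (j + 1) := by
        conv_lhs => rw [h1]
        rw [map_mul, ih, pow_succ]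
      rcases h j with h3 | h3
      · have h4 : D (j + 2) / D (j + 1) = D (j + 1) / D j := by
          rw [div_eq_div_iff (hD _) (hD _), h3]
        rw [h2]
        congr 2
        exact h4.symm
      · rw [h2, h3 _ (div_ne_zero (hD _) (hD _)), h3 _ (div_ne_zero (hD _) (hD _))]
  rw [key n, hn, div_self (hD n), map_one, one_pow]

include hC in
/-- **LA2, abstract form** -/
theorem det_mem (hCi : Function.Injective C) (α : MulChar F ℂ)
    (h : ∀ f : F[X], Irreducible f → ∀ i : ℕ,
      Module.finrank F (KK T (f ^ (i + 2))) + Module.finrank F (KK T (f ^ i)) ≠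
        2 * Module.finrank F (KK T (f ^ (i + 1))) → ∀ z : F, z ≠ 0 → α z ^ (i + 1) = 1) :
    α (LinearMap.det C) = 1 := by
  set n := Module.finrank F V + 1 with hn
  have hn0 : n ≠ 0 := by omega
  -- prime powers
  have hpp : ∀ f : F[X], Irreducible f → ∀ i : ℕ, Module.finrank F V ≤ i → α (dt C (KK T (f ^ i))) = 1 := by
    intro f hf i hi
    refine seq_lemma (fun j => dt C (KK T (f ^ j))) ?_ (fun j => dt_ne_zero hCi (KK_inv hC _)) ?_ i ?_
    · have h1 : KK T (f ^ 0) = ⊥ := by
        rw [pow_zero, KK, map_one]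
        exact LinearMap.ker_id
      rw [h1, dt_eq (bot_le)]
      exact LinearMap.det_eq_one_of_subsingleton _
    · intro j
      by_cases h1 : Module.finrank F (KK T (f ^ (j + 2))) + Module.finrank F (KK T (f ^ j)) =
          2 * Module.finrank F (KK T (f ^ (j + 1)))
      · exact Or.inl (dt_step hC f j h1)
      · exact Or.inr (h f hf j h1)
    · have h1 : KK T (f ^ (i + 1)) = KK T (f ^ i) := by
        rw [KK, KK, map_pow, map_pow, Module.End.ker_pow_eq_ker_pow_finrank_of_le (by omega : Module.finrank F V ≤ i + 1),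
          Module.End.ker_pow_eq_ker_pow_finrank_of_le hi]
      change dt C (KK T (f ^ (i + 1))) = dt C (KK T (f ^ i))
      rw [h1]
  have key : ∀ g : F[X], g ≠ 0 → α (dt C (KK T (g ^ n))) = 1 := by
    intro g
    refine UniqueFactorizationMonoid.induction_on_coprime (P := fun g : F[X] => g ≠ 0 → α (dt C (KK T (g ^ n))) = 1) g
      (fun h0 => absurd rfl h0) ?_ ?_ ?_
    · intro x hx _
      have h1 : KK T (x ^ n) = ⊥ := by
        rw [eq_bot_iff]
        have h2 := KK_mono T (hx.pow n).dvd (h := 1)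
        rw [KK, KK, map_one] at h2
        exact h2.trans (le_of_eq LinearMap.ker_id)
      rw [h1, dt_eq (bot_le)]
      rw [LinearMap.det_eq_one_of_subsingleton, map_one]
    · intro f i hf _
      rw [← pow_mul]
      rcases Nat.eq_zero_or_pos i with rfl | hi
      · rw [zero_mul]
        have h1 : KK T (f ^ 0) = ⊥ := by
          rw [pow_zero, KK, map_one]
          exact LinearMap.ker_id
        rw [h1, dt_eq (bot_le), LinearMap.det_eq_one_of_subsingleton, map_one]
      · refine hpp f hf.irreducible _ ?_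
        have := Nat.le_mul_of_pos_left n hi
        omega
    · intro x y hxy hx hy hne
      rw [mul_pow, dt_coprime hC (hxy.isCoprime.pow), map_mul, hx (left_ne_zero_of_mul hne),
        hy (right_ne_zero_of_mul hne), one_mul]
  have h1 := key (minpoly F T) (minpoly.ne_zero (Algebra.IsIntegral.isIntegral T))
  have h2 : KK T (minpoly F T ^ n) = ⊤ := by
    rw [KK, map_pow, minpoly.aeval, zero_pow hn0]
    exact LinearMap.ker_zero
  rw [h2] at h1
  have h3 : dt C ⊤ = LinearMap.det C := by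
    have h4 : (⊤ : Submodule F V) ≤ (⊤ : Submodule F V).comap C := fun _ _ => Submodule.mem_top
    rw [dt_eq h4, ← LinearMap.det_conj (C.restrict h4) (Submodule.topEquiv (R := F) (M := V))]
    rfl
  rw [← h3]
  exact h1

end Poly

open Cfsg.Agent.H624.Sl

universe u

variable {F : Type u} [Field F] {n : ℕ}

/-- LA2'': concavity -/
theorem kd_concave (x : GL (Fin n) F) (f : F[X]) (i : ℕ) :
    kd x (f ^ (i + 2)) + kd x (f ^ i) ≤ 2 * kd x (f ^ (i + 1)) :=
  finrank_concave (Matrix.toLin' x.1) f i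

/-- LA2: `α^i = 1` for all exponents `i` of elementary divisors `f^i` of `x` implies `C(x) ≤ ker (α ∘ det)`. -/
theorem centralizer_le_of_kd (x : GL (Fin n) F) (α : Fˣ →* ℂˣ)
    (h : ∀ f : F[X], Irreducible f → ∀ i : ℕ, kd x (f ^ (i + 2)) + kd x (f ^ i) ≠ 2 * kd x (f ^ (i + 1)) →
      ∀ z : Fˣ, α z ^ (i + 1) = 1) :
    Subgroup.centralizer ({x} : Set (GL (Fin n) F)) ≤ (dch n α).ker := by
  intro c hc
  rw [Subgroup.mem_centralizer_singleton_iff] at hc
  have hcomm : Commute (Matrix.toLin' c.1) (Matrix.toLin' x.1) := by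
    have h1 : c.1 * x.1 = x.1 * c.1 := congrArg Units.val hc
    change Matrix.toLin' c.1 ∘ₗ Matrix.toLin' x.1 = Matrix.toLin' x.1 ∘ₗ Matrix.toLin' c.1
    rw [← Matrix.toLin'_mul, ← Matrix.toLin'_mul, h1]
  have hinj : Function.Injective (Matrix.toLin' c.1) := by
    intro v w hvw
    have h1 := congrArg (fun t => (c⁻¹).1.mulVec t) hvw
    simpa [Matrix.toLin'_apply, Matrix.mulVec_mulVec, ← Units.val_mul] using h1
  have h2 := det_mem hcomm hinj (MulChar.ofUnitHom α) (fun f hf i hi z hz => by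
    have h3 := h f hf i hi (Units.mk0 z hz)
    have h4 : MulChar.ofUnitHom α z = ((α (Units.mk0 z hz) : ℂˣ) : ℂ) := MulChar.ofUnitHom_coe α (Units.mk0 z hz)
    rw [h4, ← Units.val_pow_eq_pow_val, h3, Units.val_one])
  rw [LinearMap.det_toLin'] at h2
  rw [MonoidHom.mem_ker, dch, MonoidHom.comp_apply]
  apply Units.ext
  rw [Units.val_one, ← h2]
  exact (MulChar.ofUnitHom_coe α (Matrix.GeneralLinearGroup.det c)).symm

end Cfsg.Agent.H156.Sl
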